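import Groth.Agent.KFlatLib.Scheme.TensorStalk
import Groth.Agent.QCoh.LocFree
import Groth.Agent.QCoh.TensorSections
import Groth.Prelude.Def_DefoConn
import Groth.Prelude.Def_DefoSh2
import Groth.Prelude.Def_FlatMod2
import Mathlib.RingTheory.Flat.Basic

/-!
# First-order deformations of modules: the extension by the reduction, tensoring it, connections on it
-/

set_option autoImplicit false
set_option linter.style.haveILetI false
set_option backward.isDefEq.respectTransparency false
set_option backward.isDefEq.respectTransparency.types false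

universe u

open CategoryTheory CategoryTheory.Limits AlgebraicGeometry TopologicalSpace Opposite MonoidalCategory
open scoped TensorProduct

noncomputable section

namespace Groth.Agent.DefoSh16

variable {k : Type u} [Field k] {X : Scheme.{u}} [X.Over (Spec (CommRingCat.of k))] {E : X.Modules}

/-- `ε`. -/
abbrev eps (k : Type u) [Field k] : ArtFun.Art.dual k k := (DualNumber.eps : DualNumber k)

variable (D : DefoSh.Defo E (ArtFun.Art.dual k k))

theorem eps_sq : D.act (eps k) * D.act (eps k) = 0 := by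
  rw [← map_mul]
  exact (congrArg D.act (DualNumber.eps_mul_eps : (DualNumber.eps : DualNumber k) * _ = 0)).trans (map_zero _)

theorem eps_π : (D.act (eps k) : D.sheaf ⟶ D.sheaf) ≫ D.π = 0 := D.act_π _ rfl

theorem act_eq (a : ArtFun.Art.dual k k) :
    D.act a = (show DualNumber k from a).fst • (1 : End D.sheaf) +
      (show DualNumber k from a).snd • D.act (eps k) := by
  let a' : DualNumber k := a
  have h : (a : ArtFun.Art.dual k k) =
      (show ArtFun.Art.dual k k from a'.fst • (1 : DualNumber k) + a'.snd • (DualNumber.eps : DualNumber k)) := by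
    show a' = a'.fst • (1 : DualNumber k) + a'.snd • (DualNumber.eps : DualNumber k)
    ext <;> simp
  exact (congrArg D.act h).trans ((map_add D.act _ _).trans (congrArg₂ (· + ·)
    ((map_smul D.act a'.fst _).trans (congrArg _ (map_one D.act))) (map_smul D.act a'.snd _)))

/-- The action of `ε`. -/
abbrev εm : D.sheaf ⟶ D.sheaf := D.act (eps k)

theorem act_hom_eq (a : ArtFun.Art.dual k k) :
    (D.act a : D.sheaf ⟶ D.sheaf) =
      (show DualNumber k from a).fst • 𝟙 D.sheaf + (show DualNumber k from a).snd • εm D :=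
  act_eq D a

theorem exists_eq_eps (p : X) (v : D.sheaf.presheaf.stalk p) (hv : RefHull.stalkMapₗ D.π p v = 0) :
    ∃ w, RefHull.stalkMapₗ (D.act (eps k) : D.sheaf ⟶ D.sheaf) p w = v := by
  letI := D.stalkMod p
  have h := D.ker_le p v hv
  induction h using Submodule.smul_induction_on' with
  | smul a ha m hm =>
    rw [ArtFun.Art.mem_maximalIdeal_iff] at ha
    let a' : DualNumber k := a
    have h1 : a = a'.snd • eps k := by
      show a' = a'.snd • (DualNumber.eps : DualNumber k)
      ext
      · rw [TrivSqZeroExt.fst_smul, DualNumber.fst_eps, smul_zero]; exact ha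
      · rw [TrivSqZeroExt.snd_smul, DualNumber.snd_eps, smul_eq_mul, mul_one]
    refine ⟨(algebraMap k (ArtFun.Art.dual k k) a'.snd) • m, ?_⟩
    show (eps k) • ((algebraMap k (ArtFun.Art.dual k k) a'.snd) • m) = a • m
    rw [← mul_smul]
    congr 1
    rw [mul_comm]
    exact (Algebra.smul_def _ _).symm.trans h1.symm
  | add x hx y hy ihx ihy =>
    have hh : ∀ z, z ∈ IsLocalRing.maximalIdeal (ArtFun.Art.dual k k) •
        (⊤ : Submodule (ArtFun.Art.dual k k) ↑(D.sheaf.presheaf.stalk p)) → RefHull.stalkMapₗ D.π p z = 0 := by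
      intro z hz
      induction hz using Submodule.smul_induction_on' with
      | smul a ha m hm =>
        rw [ArtFun.Art.mem_maximalIdeal_iff] at ha
        show RefHull.stalkMapₗ D.π p (RefHull.stalkMapₗ (D.act a) p m) = 0
        rw [← DefoSh.stalkMapₗ_comp_apply, D.act_π a ha, DefoSh.stalkMapₗ_zero_apply]
      | add x _ y _ ihx ihy => rw [map_add, ihx, ihy, add_zero]
    obtain ⟨w, hw⟩ := ihx (hh x hx)
    obtain ⟨w', hw'⟩ := ihy (hh y hy)
    exact ⟨w + w', by rw [map_add, hw, hw']⟩

theorem π_eq_zero_of_eps (p : X) (v : D.sheaf.presheaf.stalk p)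
    (hv : RefHull.stalkMapₗ (D.act (eps k) : D.sheaf ⟶ D.sheaf) p v = 0) :
    RefHull.stalkMapₗ D.π p v = 0 := by
  letI := D.stalkMod p
  haveI : Module.Flat (ArtFun.Art.dual k k) (D.sheaf.presheaf.stalk p) := D.flat p
  let A := ArtFun.Art.dual k k
  let f : A →ₗ[A] A := LinearMap.mulLeft A (eps k)
  have hex : Function.Exact f f := fun x => by
    constructor
    · intro hx
      let x' : DualNumber k := x
      have h0 : x'.fst = 0 := by
        have := congrArg TrivSqZeroExt.snd (show (DualNumber.eps : DualNumber k) * x' = 0 from hx)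
        simpa [TrivSqZeroExt.snd_mul] using this
      refine ⟨(show A from TrivSqZeroExt.inl x'.snd), ?_⟩
      show (DualNumber.eps : DualNumber k) * TrivSqZeroExt.inl x'.snd = x'
      ext
      · simpa using h0.symm
      · simp [TrivSqZeroExt.snd_mul]
    · rintro ⟨y, rfl⟩
      show eps k * (eps k * y) = 0
      rw [← mul_assoc, show eps k * eps k = 0 from DualNumber.eps_mul_eps, zero_mul]
  have h := Module.Flat.rTensor_exact (D.sheaf.presheaf.stalk p) hex
  let e := TensorProduct.lid A (D.sheaf.presheaf.stalk p)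
  have hnat : ∀ z, e (f.rTensor _ z) = eps k • e z := by
    intro z
    induction z with
    | zero => simp
    | tmul r m => simp [e, f, mul_smul]
    | add a b ha hb => rw [map_add, map_add, ha, hb, map_add, smul_add]
  obtain ⟨z, hz⟩ := (h (e.symm v)).1 (e.injective (by
    rw [hnat, e.apply_symm_apply, map_zero]; exact hv))
  have hzz := congrArg e hz
  rw [hnat, e.apply_symm_apply] at hzz
  rw [← hzz]
  show RefHull.stalkMapₗ D.π p (RefHull.stalkMapₗ (D.act (eps k) : D.sheaf ⟶ D.sheaf) p (e z)) = 0
  rw [← DefoSh.stalkMapₗ_comp_apply, eps_π, DefoSh.stalkMapₗ_zero_apply]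

theorem epi_π : Epi D.π := by
  refine (ShortComplex.exact_iff_epi (ShortComplex.mk D.π (0 : E ⟶ E) comp_zero) rfl).1
    ((KFlatLib.exact_iff_stalk _).2 fun p => ?_)
  rw [ShortComplex.moduleCat_exact_iff]
  intro v _
  exact D.surj p v

variable (ι : E ⟶ D.sheaf) (hι : D.π ≫ ι = D.act (DualNumber.eps : DualNumber k))

include hι in
theorem ι_π : ι ≫ D.π = 0 := by
  haveI := epi_π D
  rw [← cancel_epi D.π, reassoc_of% hι, comp_zero]
  exact eps_π D

/-- The extension of `E` by `E` of a first-order deformation. -/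
abbrev ext : ShortComplex X.Modules := ShortComplex.mk ι D.π (ι_π D ι hι)

theorem ext_shortExact : (ext D ι hι).ShortExact := by
  haveI := epi_π D
  have hw : ∀ (p : X) w, RefHull.stalkMapₗ ι p (RefHull.stalkMapₗ D.π p w) =
      RefHull.stalkMapₗ (D.act (eps k) : D.sheaf ⟶ D.sheaf) p w := fun p w => by
    rw [← DefoSh.stalkMapₗ_comp_apply]
    exact congrArg (fun φ => RefHull.stalkMapₗ φ p w) hι
  refine (KFlatLib.shortExact_iff_stalk _).2 fun p => ?_
  refine ShortComplex.ShortExact.mk' ?_ ?_ ?_
  · rw [ShortComplex.moduleCat_exact_iff]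
    intro v hv
    obtain ⟨w, hw'⟩ := exists_eq_eps D p v hv
    exact ⟨RefHull.stalkMapₗ D.π p w, (hw p w).trans hw'⟩
  · refine (ModuleCat.mono_iff_injective _).2 ((injective_iff_map_eq_zero _).2 fun v hv => ?_)
    obtain ⟨w, rfl⟩ := D.surj p v
    exact π_eq_zero_of_eps D p w ((hw p w).symm.trans hv)
  · exact (ModuleCat.epi_iff_surjective _).2 (D.surj p)

theorem exists_ι : ∃ ι : E ⟶ D.sheaf, D.π ≫ ι = D.act (DualNumber.eps : DualNumber k) := by
  haveI := epi_π D
  let S : ShortComplex X.Modules := ShortComplex.mk (kernel.ι D.π) D.π (kernel.condition _)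
  have hS : S.Exact := ShortComplex.exact_kernel D.π
  have h0 : kernel.ι D.π ≫ (D.act (eps k) : D.sheaf ⟶ D.sheaf) = 0 := by
    let φ := kernel.ι D.π ≫ (D.act (eps k) : D.sheaf ⟶ D.sheaf)
    show φ = 0
    refine Scheme.Modules.hom_ext _ _ fun U => ?_
    ext z
    refine TopCat.Presheaf.section_ext ⟨D.sheaf.presheaf, D.sheaf.isSheaf⟩ U _ _ fun p hp => ?_
    have h1 : RefHull.stalkMapₗ D.π p ((RefHull.stalkMapₗ (kernel.ι D.π) p) ((kernel D.π).presheaf.germ U p hp z)) = 0 := by
      rw [← DefoSh.stalkMapₗ_comp_apply, kernel.condition, DefoSh.stalkMapₗ_zero_apply]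
    obtain ⟨w, hw⟩ := exists_eq_eps D p _ h1
    have h2 : RefHull.stalkMapₗ φ p ((kernel D.π).presheaf.germ U p hp z) = 0 := by
      rw [DefoSh.stalkMapₗ_comp_apply, ← hw, ← DefoSh.stalkMapₗ_comp_apply]
      have hh := eps_sq D
      rw [End.mul_def] at hh
      rw [hh, DefoSh.stalkMapₗ_zero_apply]
    rw [RefHull.stalkMapₗ_germ] at h2
    rw [show ((0 : kernel D.π ⟶ D.sheaf).app U z : Γ(D.sheaf, U)) = 0 from rfl, map_zero]
    exact h2
  exact ⟨hS.desc _ h0, hS.g_desc _ h0⟩

/-- Tensoring a short exact sequence with stalkwise projective quotient stays short exact. -/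
theorem shortExact_tensor {A B C : X.Modules} (f : A ⟶ B) (g : B ⟶ C) (w : f ≫ g = 0)
    (hS : (ShortComplex.mk f g w).ShortExact) (hC : FlatMod.IsFinLocFree C) (N : X.Modules)
    (w' : KoszTw.tensorMap f (𝟙 N) ≫ KoszTw.tensorMap g (𝟙 N) = 0) :
    (ShortComplex.mk (KoszTw.tensorMap f (𝟙 N)) (KoszTw.tensorMap g (𝟙 N)) w').ShortExact := by
  refine (KFlatLib.shortExact_iff_stalk _).2 fun x => ?_
  let σ := DerSch.stalkFunctor X x
  have hx : ((ShortComplex.mk f g w).map σ).ShortExact := (KFlatLib.shortExact_iff_stalk _).1 hS x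
  haveI := QCoh.free_stalk_of_isFinLocFree hC x
  haveI : Module.Projective (X.presheaf.stalk x) (σ.obj C) :=
    (inferInstance : Module.Projective (X.presheaf.stalk x) (C.presheaf.stalk x))
  haveI : Projective ((ShortComplex.mk f g w).map σ).X₃ :=
    (IsProjective.iff_projective (R := X.presheaf.stalk x) (σ.obj C)).1 inferInstance
  let T := MonoidalCategory.tensorRight (σ.obj N)
  have h2 : (((ShortComplex.mk f g w).map σ).map T).ShortExact :=
    (hx.splittingOfProjective.map T).shortExact
  have nat : ∀ {P Q : X.Modules} (φ : P ⟶ Q),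
      (KFlatLib.stalkTensorIso x P N).hom ≫ σ.map (KoszTw.tensorMap φ (𝟙 N)) =
        T.map (σ.map φ) ≫ (KFlatLib.stalkTensorIso x Q N).hom := fun {P Q} φ => by
    have h := KFlatLib.stalkTensorIso_naturality (x := x) φ (𝟙 N)
    rw [CategoryTheory.Functor.map_id, MonoidalCategory.tensorHom_id] at h
    exact h.symm
  exact ShortComplex.shortExact_of_iso (ShortComplex.isoMk (KFlatLib.stalkTensorIso x A N)
    (KFlatLib.stalkTensorIso x B N) (KFlatLib.stalkTensorIso x C N) (nat f) (nat g)) h2

end Groth.Agent.DefoSh16
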