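import Groth.Agent.QCoh.Ab.CechBridge
import Groth.Agent.AModX.Res
import Groth.Prelude.Def_CohB1
import Mathlib.Algebra.Homology.ShortComplex.Ab

/-!
# Degree one Cech cohomology of a family of two opens
-/

universe u

open CategoryTheory CategoryTheory.Limits AlgebraicGeometry TopologicalSpace Opposite

noncomputable section

namespace Groth.Agent.DefoSh16

open QCoh.Ab

variable {X : Scheme.{u}} (U : ULift.{u} (Fin 2) → X.Opens) (M : X.Modules)

/-- The difference of the restrictions to the overlap. -/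
def diff2 : Γ(M, U ⟨0⟩) × Γ(M, U ⟨1⟩) →+ Γ(M, U ⟨0⟩ ⊓ U ⟨1⟩) :=
  (AModX.res M inf_le_right).comp (AddMonoidHom.snd _ _) - (AModX.res M inf_le_left).comp (AddMonoidHom.fst _ _)

theorem diff2_apply (t : Γ(M, U ⟨0⟩) × Γ(M, U ⟨1⟩)) :
    diff2 U M t = AModX.res M inf_le_right t.2 - AModX.res M inf_le_left t.1 := rfl

theorem le_pair {W : X.Opens} {σ : Fin 2 → ULift.{u} (Fin 2)} (h : W ≤ U (σ 0) ⊓ U (σ 1)) :
    Le (X := X.toPresheafedSpace.carrier) U σ W :=
  Fin.cases (h.trans inf_le_left) fun j => (Subsingleton.elim j 0) ▸ h.trans inf_le_right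

variable {U M}

/-- The sections over the overlap of a natural cochain of degree one. -/
def ev01 : natCochains (X := X.toPresheafedSpace.carrier) M.presheaf U 2 →+ Γ(M, U ⟨0⟩ ⊓ U ⟨1⟩) :=
  AddMonoidHom.mk' (fun c => c.1 ![⟨0⟩, ⟨1⟩] ⟨U ⟨0⟩ ⊓ U ⟨1⟩, le_pair U le_rfl⟩) fun _ _ => rfl

theorem natural_apply {p : ℕ} {c : Cochain (X := X.toPresheafedSpace.carrier) M.presheaf U p}
    (hc : IsNatural c) (σ : Fin p → ULift.{u} (Fin 2)) (W W' : X.Opens) (h : Le U σ W) (h' : Le U σ W')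
    (i : W' ≤ W) : AModX.res M i (c σ ⟨W, h⟩) = c σ ⟨W', h'⟩ :=
  hc σ W W' h h' (homOfLE i)

theorem d_one_apply (c : Cochain (X := X.toPresheafedSpace.carrier) M.presheaf U 2)
    (σ : Fin 3 → ULift.{u} (Fin 2)) (W : {W : X.Opens // Le U σ W}) :
    d c σ W = c (fun b => σ ((0 : Fin 3).succAbove b)) ⟨W.1, fun b => W.2 _⟩ -
      c (fun b => σ ((1 : Fin 3).succAbove b)) ⟨W.1, fun b => W.2 _⟩ +
      c (fun b => σ ((2 : Fin 3).succAbove b)) ⟨W.1, fun b => W.2 _⟩ := by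
  refine (Fin.sum_univ_three _).trans ?_
  simp [sub_eq_add_neg]

theorem cochain_congr {p : ℕ} (c : Cochain (X := X.toPresheafedSpace.carrier) M.presheaf U p)
    {σ τ : Fin p → ULift.{u} (Fin 2)} (h : σ = τ) (W : X.Opens) (hσ : Le U σ W) (hτ : Le U τ W) :
    c σ ⟨W, hσ⟩ = c τ ⟨W, hτ⟩ := by subst h; rfl

theorem d_zero_apply (c : Cochain (X := X.toPresheafedSpace.carrier) M.presheaf U 1)
    (σ : Fin 2 → ULift.{u} (Fin 2)) (W : X.Opens) (h : Le U σ W) :
    d c σ ⟨W, h⟩ = c ![σ 1] ⟨W, fun a => by simpa using h 1⟩ - c ![σ 0] ⟨W, fun a => by simpa using h 0⟩ := by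
  have e0 : c (fun b : Fin 1 => σ ((0 : Fin 2).succAbove b)) ⟨W, fun b => h _⟩ =
      c ![σ 1] ⟨W, fun a => by simpa using h 1⟩ :=
    cochain_congr c (funext fun b => by fin_cases b; rfl) W _ _
  have e1 : c (fun b : Fin 1 => σ ((1 : Fin 2).succAbove b)) ⟨W, fun b => h _⟩ =
      c ![σ 0] ⟨W, fun a => by simpa using h 0⟩ :=
    cochain_congr c (funext fun b => by fin_cases b; rfl) W _ _
  refine (Fin.sum_univ_two _).trans ?_
  rw [← e0, ← e1]
  simp [sub_eq_add_neg]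

/-- The cocycle relation. -/
theorem cocycle_rel (c : natCochains (X := X.toPresheafedSpace.carrier) M.presheaf U 2) (hc : d c.1 = 0)
    (i j l : ULift.{u} (Fin 2)) (W : X.Opens) (hi : W ≤ U i) (hj : W ≤ U j) (hl : W ≤ U l) :
    (show Γ(M, W) from c.1 ![j, l] ⟨W, le_pair U (le_inf hj hl)⟩) - c.1 ![i, l] ⟨W, le_pair U (le_inf hi hl)⟩ +
      c.1 ![i, j] ⟨W, le_pair U (le_inf hi hj)⟩ = 0 := by
  have h3 : Le U ![i, j, l] W := Fin.cases hi (Fin.cases hj (Fin.cases hl fun a => a.elim0))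
  refine Eq.trans ?_ ((d_one_apply c.1 ![i, j, l] ⟨W, h3⟩).symm.trans (congrFun (congrFun hc _) _))
  refine congrArg₂ (· + ·) (congrArg₂ (· - ·) ?_ ?_) ?_ <;>
    exact cochain_congr c.1 (funext fun b => by fin_cases b <;> rfl) W _ _

theorem cocycle_diag (c : natCochains (X := X.toPresheafedSpace.carrier) M.presheaf U 2) (hc : d c.1 = 0)
    (i : ULift.{u} (Fin 2)) (W : X.Opens) (h : Le U ![i, i] W) : c.1 ![i, i] ⟨W, h⟩ = 0 := by
  have e := cocycle_rel c hc i i i W (h 0) (h 0) (h 0)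
  rw [sub_self, zero_add] at e
  exact e

theorem cocycle_eq_zero (c : natCochains (X := X.toPresheafedSpace.carrier) M.presheaf U 2) (hc : d c.1 = 0)
    (h01 : ev01 c = 0) : c = 0 := by
  have k01 : ∀ (W : X.Opens) (h : Le U ![⟨0⟩, ⟨1⟩] W), c.1 ![⟨0⟩, ⟨1⟩] ⟨W, h⟩ = 0 := fun W h =>
    (natural_apply c.2 ![⟨0⟩, ⟨1⟩] _ W (le_pair U le_rfl) h (le_inf (h 0) (h 1))).symm.trans
      ((congrArg (AModX.res M _) h01).trans (map_zero _))
  have key : ∀ (a b : ULift.{u} (Fin 2)) (W : X.Opens) (h : Le U ![a, b] W), c.1 ![a, b] ⟨W, h⟩ = 0 := by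
    rintro ⟨a⟩ ⟨b⟩ W h
    obtain rfl | rfl : a = 0 ∨ a = 1 := by omega
    all_goals obtain rfl | rfl : b = 0 ∨ b = 1 := by omega
    · exact cocycle_diag c hc _ W h
    · exact k01 W h
    · have e := cocycle_rel c hc ⟨1⟩ ⟨0⟩ ⟨1⟩ W (h 0) (h 1) (h 0)
      rw [k01 W, cocycle_diag c hc ⟨1⟩ W, sub_self, zero_add] at e
      exact e
    · exact cocycle_diag c hc _ W h
  refine Subtype.ext (funext fun σ => funext fun W => ?_)
  obtain ⟨a, b, rfl⟩ : ∃ a b, σ = ![a, b] := ⟨σ 0, σ 1, funext fun j => by fin_cases j <;> rfl⟩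
  exact key a b W.1 W.2

/-- The value of the alternating cochain of a section over the overlap. -/
def altVal (x : Γ(M, U ⟨0⟩ ⊓ U ⟨1⟩)) (W : X.Opens) :
    ∀ (a b : Fin 2), W ≤ U ⟨a⟩ → W ≤ U ⟨b⟩ → Γ(M, W)
  | 0, 0, _, _ => 0
  | 0, 1, h, h' => AModX.res M (le_inf h h') x
  | 1, 0, h, h' => -AModX.res M (le_inf h' h) x
  | 1, 1, _, _ => 0

theorem altVal_res (x : Γ(M, U ⟨0⟩ ⊓ U ⟨1⟩)) {W W' : X.Opens} (i : W' ≤ W) (a b : Fin 2)
    (h : W ≤ U ⟨a⟩) (h' : W ≤ U ⟨b⟩) :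
    AModX.res M i (altVal x W a b h h') = altVal x W' a b (i.trans h) (i.trans h') := by
  fin_cases a <;> fin_cases b <;> simp [altVal, AModX.res_res]

theorem altVal_cocycle (x : Γ(M, U ⟨0⟩ ⊓ U ⟨1⟩)) (W : X.Opens) (a b c : Fin 2)
    (ha : W ≤ U ⟨a⟩) (hb : W ≤ U ⟨b⟩) (hc : W ≤ U ⟨c⟩) :
    altVal x W b c hb hc - altVal x W a c ha hc + altVal x W a b ha hb = 0 := by
  fin_cases a <;> fin_cases b <;> fin_cases c <;> simp [altVal]

theorem exists_cocycle (x : Γ(M, U ⟨0⟩ ⊓ U ⟨1⟩)) :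
    ∃ c : natCochains (X := X.toPresheafedSpace.carrier) M.presheaf U 2, d c.1 = 0 ∧ ev01 c = x := by
  refine ⟨⟨fun σ W => altVal x W.1 (σ 0).down (σ 1).down (W.2 0) (W.2 1),
    fun σ W W' h h' i => altVal_res x i.le _ _ _ _⟩, funext fun σ => funext fun W => ?_, ?_⟩
  · rw [d_one_apply]
    exact altVal_cocycle x W.1 (σ 0).down (σ 1).down (σ 2).down (W.2 0) (W.2 1) (W.2 2)
  · exact AModX.res_self x

theorem ev01_d (c : natCochains (X := X.toPresheafedSpace.carrier) M.presheaf U 1) :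
    ev01 (natD M.presheaf U 0 c) = diff2 U M
      (c.1 ![⟨0⟩] ⟨U ⟨0⟩, fun a => le_of_eq (by simp)⟩, c.1 ![⟨1⟩] ⟨U ⟨1⟩, fun a => le_of_eq (by simp)⟩) := by
  refine (d_zero_apply c.1 ![⟨0⟩, ⟨1⟩] _ _).trans ?_
  rw [diff2_apply]
  exact congrArg₂ (· - ·) (natural_apply c.2 _ _ _ _ _ inf_le_right).symm
    (natural_apply c.2 _ _ _ _ _ inf_le_left).symm

theorem exists_d_eq (t : Γ(M, U ⟨0⟩) × Γ(M, U ⟨1⟩)) :
    ∃ c : natCochains (X := X.toPresheafedSpace.carrier) M.presheaf U 1,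
      ev01 (natD M.presheaf U 0 c) = diff2 U M t := by
  let v : ∀ (a : Fin 2), Γ(M, U ⟨a⟩) := fun a => match a with | 0 => t.1 | 1 => t.2
  refine ⟨⟨fun σ W => AModX.res M (W.2 0) (v (σ 0).down),
    fun σ W W' h h' i => AModX.res_res (h 0) i.le _⟩, ?_⟩
  rw [ev01_d]
  exact congrArg (diff2 U M) (Prod.ext (AModX.res_self _) (AModX.res_self _))

/-- Degree one Cech cohomology of two opens is the cokernel of the difference of the restrictions. -/
theorem nonempty_cechH_one_addEquiv :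
    Nonempty ((Γ(M, U ⟨0⟩ ⊓ U ⟨1⟩) ⧸ (diff2 U M).range) ≃+ ↑(CohB1.cechH U M 1)) := by
  let S : ShortComplex AddCommGrpCat.{u} := (natCx (X := X.toPresheafedSpace.carrier) M.presheaf U).sc' 0 1 2
  have hf : ∀ c, S.f c = natD M.presheaf U 0 c := fun c => by
    show (natCx (X := X.toPresheafedSpace.carrier) M.presheaf U).d 0 1 c = _
    rw [natCx_d]
    rfl
  have hg : ∀ c, S.g c = natD M.presheaf U 1 c := fun c => by
    show (natCx (X := X.toPresheafedSpace.carrier) M.presheaf U).d 1 2 c = _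
    rw [natCx_d]
    rfl
  let q : S.g.hom.ker →+ Γ(M, U ⟨0⟩ ⊓ U ⟨1⟩) ⧸ (diff2 U M).range :=
    (QuotientAddGroup.mk' _).comp (ev01.comp S.g.hom.ker.subtype)
  have hq : Function.Surjective q := fun z => by
    obtain ⟨x, rfl⟩ := QuotientAddGroup.mk'_surjective _ z
    obtain ⟨c, hc, hx⟩ := exists_cocycle x
    exact ⟨⟨c, (hg c).trans (Subtype.ext hc)⟩, congrArg _ hx⟩
  have hk : q.ker = AddMonoidHom.range S.abToCycles := by
    ext z
    rw [AddMonoidHom.mem_ker, AddMonoidHom.mem_range]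
    change QuotientAddGroup.mk' _ (ev01 z.1) = 0 ↔ _
    rw [QuotientAddGroup.mk'_apply, QuotientAddGroup.eq_zero_iff]
    constructor
    · rintro ⟨t, ht⟩
      obtain ⟨c, hc⟩ := exists_d_eq t
      let w : natCochains (X := X.toPresheafedSpace.carrier) M.presheaf U 2 := natD M.presheaf U 0 c
      let v : natCochains (X := X.toPresheafedSpace.carrier) M.presheaf U 2 := z.1
      refine ⟨c, Subtype.ext ((hf c).trans (show w = v from sub_eq_zero.1 (cocycle_eq_zero (w - v) ?_ ?_)))⟩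
      · have hw : natD M.presheaf U 1 w = 0 := (hg w).symm.trans
          ((congrArg S.g (hf c)).symm.trans (S.ab_zero_apply c))
        have hv : natD M.presheaf U 1 v = 0 := (hg v).symm.trans z.2
        exact congrArg Subtype.val (show natD M.presheaf U 1 (w - v) = 0 by rw [map_sub, hw, hv, sub_zero])
      · rw [map_sub]
        exact sub_eq_zero.2 (hc.trans ht)
    · rintro ⟨c, rfl⟩
      refine ⟨_, ((congrArg ev01 (hf c)).trans (ev01_d c)).symm⟩
  refine ⟨((QuotientAddGroup.quotientAddEquivOfEq hk).symm.trans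
    (QuotientAddGroup.quotientKerEquivOfSurjective q hq)).symm.trans (S.abHomologyIso.symm ≪≫ ?_).addCommGroupIsoToAddEquiv⟩
  exact (ShortComplex.homologyMapIso ((natCx (X := X.toPresheafedSpace.carrier) M.presheaf U).isoSc' 0 1 2
      (by simp) (by simp))).symm ≪≫ HomologicalComplex.homologyMapIso (cechIso M.presheaf U) 1

end Groth.Agent.DefoSh16

end
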