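import Groth.Agent.DefoSh16.Basic

/-!
# Connections on first-order deformations of modules
-/

set_option autoImplicit false
set_option linter.style.haveILetI false
set_option backward.isDefEq.respectTransparency false
set_option backward.isDefEq.respectTransparency.types false

universe u

open CategoryTheory CategoryTheory.Limits AlgebraicGeometry TopologicalSpace Opposite

noncomputable section

namespace Groth.Agent.DefoSh16

section
variable {X : Scheme.{u}} {Ω' M M' M'' : X.Modules}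

theorem tensor_hom_ext {N P : X.Modules} {f g : CohB1.tensorMod M N ⟶ P}
    (h : ∀ (U : X.Opens) (m : M.val.obj (op U)) (n : N.val.obj (op U)),
      (f.val.app (op U)).hom (SecTwist.tmul M N U m n) = (g.val.app (op U)).hom (SecTwist.tmul M N U m n)) :
    f = g := by
  let adj := PresheafOfModules.sheafificationAdjunction.{u, u, u, u}
    (J := Opens.grothendieckTopology X) (𝟙 X.ringCatSheaf.obj)
  refine (adj.homEquiv (show X.PresheafOfModules from CohB1.tensorPre M N) P).injective ?_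
  rw [adj.homEquiv_unit, adj.homEquiv_unit]
  refine PresheafOfModules.hom_ext fun U => ?_
  exact ModuleCat.MonoidalCategory.tensor_ext fun m n => h U.unop m n

theorem tmul_add_left {N : X.Modules} (U : X.Opens) (m m' : M.val.obj (op U)) (n : N.val.obj (op U)) :
    SecTwist.tmul M N U (m + m') n = SecTwist.tmul M N U m n + SecTwist.tmul M N U m' n :=
  (congrArg ((SecTwist.toTensor M N).app (op U)).hom (TensorProduct.add_tmul m m' n)).trans (map_add _ _ _)

theorem tmul_add_right {N : X.Modules} (U : X.Opens) (m : M.val.obj (op U)) (n n' : N.val.obj (op U)) :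
    SecTwist.tmul M N U m (n + n') = SecTwist.tmul M N U m n + SecTwist.tmul M N U m n' :=
  (congrArg ((SecTwist.toTensor M N).app (op U)).hom (TensorProduct.tmul_add m n n')).trans (map_add _ _ _)

theorem tmul_smul_left {N : X.Modules} (U : X.Opens) (c : Γ(X, U)) (m : Γ(M, U)) (n : Γ(N, U)) :
    SecTwist.tmul M N U (c • m : Γ(M, U)) n = (c • (show Γ(CohB1.tensorMod M N, U) from SecTwist.tmul M N U m n) :
      Γ(CohB1.tensorMod M N, U)) :=
  QCoh.tmS_smul_left M N c m n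



theorem tensorMap_apply_comp (φ : M ⟶ M') (ψ : M' ⟶ M'') (U : X.Opens) (z : Γ(CohB1.tensorMod M Ω', U)) :
    (KoszTw.tensorMap ψ (𝟙 Ω')).app U ((KoszTw.tensorMap φ (𝟙 Ω')).app U z) =
      (KoszTw.tensorMap (φ ≫ ψ) (𝟙 Ω')).app U z := by
  rw [show KoszTw.tensorMap (φ ≫ ψ) (𝟙 Ω') = KoszTw.tensorMap φ (𝟙 Ω') ≫ KoszTw.tensorMap ψ (𝟙 Ω') by
    rw [← KoszTw.tensorMap_comp, Category.id_comp]]
  rfl

theorem tensorMap_add (φ ψ : M ⟶ M') :
    KoszTw.tensorMap (φ + ψ) (𝟙 Ω') = KoszTw.tensorMap φ (𝟙 Ω') + KoszTw.tensorMap ψ (𝟙 Ω') := by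
  rw [← KoszTw.tensorBi_map_app, ← KoszTw.tensorBi_map_app, ← KoszTw.tensorBi_map_app, Functor.map_add]
  rfl

theorem tensorMap_zero : KoszTw.tensorMap (0 : M ⟶ M') (𝟙 Ω') = 0 := by
  rw [← KoszTw.tensorBi_map_app, Functor.map_zero]
  rfl


theorem tensorMap_comp' (φ : M ⟶ M') (ψ : M' ⟶ M'') :
    KoszTw.tensorMap (φ ≫ ψ) (𝟙 Ω') = KoszTw.tensorMap φ (𝟙 Ω') ≫ KoszTw.tensorMap ψ (𝟙 Ω') := by
  rw [← KoszTw.tensorMap_comp, Category.id_comp]

/-- The underlying map of abelian sheaves. -/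
abbrev T (φ : M ⟶ M') : Coh.toAb M ⟶ Coh.toAb M' := (SheafOfModules.toSheaf X.ringCatSheaf).map φ

theorem secApp_ext {c c' : Coh.toAb M ⟶ Coh.toAb M'}
    (h : ∀ (U : X.Opens) (e : M.val.obj (op U)), ConnSh.secApp c U e = ConnSh.secApp c' U e) : c = c' := by
  apply ObjectProperty.hom_ext
  ext U e
  exact h U.unop e

theorem isHorizontal_iff (c : Coh.toAb M ⟶ Coh.toAb (CohB1.tensorMod M Ω'))
    (c' : Coh.toAb M' ⟶ Coh.toAb (CohB1.tensorMod M' Ω')) (φ : M ⟶ M') :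
    ConnSh.IsHorizontal c c' φ ↔ T φ ≫ c' = c ≫ T (KoszTw.tensorMap φ (𝟙 Ω')) := by
  constructor
  · exact fun h => secApp_ext fun U e => h U e
  · intro h U e
    exact congrArg (fun z => ConnSh.secApp z U e) h

theorem exists_hom_of_linear (Δ : Coh.toAb M ⟶ Coh.toAb M')
    (h : ∀ (U : X.Opens) (t : Γ(X, U)) (e : M.val.obj (op U)),
      ConnSh.secApp Δ U (t • e) = t • ConnSh.secApp Δ U e) :
    ∃ φ : M ⟶ M', T φ = Δ := by
  let ap : M.presheaf ⟶ M'.presheaf :=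
    { app := fun U => AddCommGrpCat.ofHom (ConnSh.secApp Δ U.unop)
      naturality := fun U V i => by
        ext x
        exact congr($(Δ.hom.naturality i) x) }
  exact ⟨⟨PresheafOfModules.homMk ap fun U r x => h U.unop r x⟩, secApp_ext fun U e => rfl⟩

theorem T_comp (φ : M ⟶ M') (ψ : M' ⟶ M'') : T (φ ≫ ψ) = T φ ≫ T ψ := Functor.map_comp _ _ _

theorem T_add (φ ψ : M ⟶ M') : T (φ + ψ) = T φ + T ψ := Functor.map_add _

theorem T_id : T (𝟙 M) = 𝟙 (Coh.toAb M) := CategoryTheory.Functor.map_id _ _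

theorem T_zero : T (0 : M ⟶ M') = 0 := Functor.map_zero _ _ _

theorem T_injective : Function.Injective (T (M := M) (M' := M')) :=
  fun _ _ h => (SheafOfModules.toSheaf X.ringCatSheaf).map_injective h

variable {k : Type u} [Field k] [X.Over (Spec (CommRingCat.of k))]
  (δ : OmegaSh.Der (X ↘ Spec (CommRingCat.of k)) Ω')

theorem tensorMap_smul_id (a : k) :
    KoszTw.tensorMap (a • 𝟙 M) (𝟙 Ω') = a • 𝟙 (CohB1.tensorMod M Ω') := by
  refine tensor_hom_ext fun V m n => ?_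
  show (KoszTw.tensorMap (a • 𝟙 M) (𝟙 Ω')).app V _ = (a • 𝟙 (CohB1.tensorMod M Ω')).app V _
  rw [KoszTw.tensorMap_tmul, KLin.smul_app_apply, KLin.smul_app_apply]
  exact tmul_smul_left V _ _ _

theorem tensorMap_smul (a : k) (φ : M ⟶ M') :
    KoszTw.tensorMap (a • φ) (𝟙 Ω') = a • KoszTw.tensorMap φ (𝟙 Ω') := by
  rw [show a • φ = (a • 𝟙 M) ≫ φ by rw [Linear.smul_comp, Category.id_comp], tensorMap_comp',
    tensorMap_smul_id, Linear.smul_comp, Category.id_comp]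

theorem isConn_add {c : Coh.toAb M ⟶ Coh.toAb (CohB1.tensorMod M Ω')} (hc : ConnSh.IsConn δ M c)
    (φ : M ⟶ CohB1.tensorMod M Ω') : ConnSh.IsConn δ M (c + T φ) := by
  intro U t e
  let e' : Γ(M, U) := e
  let z : Γ(CohB1.tensorMod M Ω', U) := ConnSh.secApp c U (t • e)
  let z' : Γ(CohB1.tensorMod M Ω', U) := ConnSh.secApp c U e
  let w : Γ(CohB1.tensorMod M Ω', U) := SecTwist.tmul M Ω' U e (δ.app U t)
  show z + φ.app U (t • e') = t • (z' + φ.app U e') + w
  simp only [z, z', w]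
  erw [hc U t e]
  rw [Scheme.Modules.Hom.app_smul, smul_add]
  exact add_right_comm _ _ _

theorem exists_sub_eq {c c' : Coh.toAb M ⟶ Coh.toAb (CohB1.tensorMod M Ω')} (hc : ConnSh.IsConn δ M c)
    (hc' : ConnSh.IsConn δ M c') : ∃ φ : M ⟶ CohB1.tensorMod M Ω', T φ = c' - c := by
  refine exists_hom_of_linear _ fun U t e => ?_
  show ConnSh.secApp c' U (t • e) - ConnSh.secApp c U (t • e) =
    t • (ConnSh.secApp c' U e - ConnSh.secApp c U e)
  rw [hc U t e, hc' U t e, smul_sub]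
  abel

end

variable {k : Type u} [Field k] {X : Scheme.{u}} [X.Over (Spec (CommRingCat.of k))] {Ω' E : X.Modules}
  {δ : OmegaSh.Der (X ↘ Spec (CommRingCat.of k)) Ω'}
  {nabla : Coh.toAb E ⟶ Coh.toAb (CohB1.tensorMod E Ω')}
  {D : DefoSh.Defo E (ArtFun.Art.dual k k)} (ι : E ⟶ D.sheaf)
  (hι : D.π ≫ ι = D.act (DualNumber.eps : DualNumber k)) (hE : FlatMod.IsFinLocFree E)

include hι hE in
theorem tens_shortExact : (ShortComplex.mk (KoszTw.tensorMap ι (𝟙 Ω')) (KoszTw.tensorMap D.π (𝟙 Ω'))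
    (by rw [← tensorMap_comp', ι_π D ι hι, tensorMap_zero])).ShortExact :=
  shortExact_tensor ι D.π (ι_π D ι hι) (ext_shortExact D ι hι) hE Ω' _

include hι in
/-- Morphisms out of `π`-compositions factor through `π`. -/
theorem exists_desc {N : X.Modules} (φ : D.sheaf ⟶ N) (h : ι ≫ φ = 0) : ∃ ψ : E ⟶ N, D.π ≫ ψ = φ :=
  haveI := epi_π D
  ⟨(ext_shortExact D ι hι).exact.desc φ h, (ext_shortExact D ι hι).exact.g_desc φ h⟩

include hι in
theorem act_comp_πι (a : ArtFun.Art.dual k k) (S : E ⟶ E) :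
    (D.act a : D.sheaf ⟶ D.sheaf) ≫ D.π ≫ S ≫ ι = (D.π ≫ S ≫ ι) ≫ (D.act a : D.sheaf ⟶ D.sheaf) := by
  haveI := epi_π D
  have h1 : ι ≫ D.π = 0 := ι_π D ι hι
  have hε : (εm D) = D.π ≫ ι := hι.symm
  erw [act_hom_eq D a]
  change ((show DualNumber k from a).fst • 𝟙 D.sheaf + (show DualNumber k from a).snd • (εm D)) ≫ D.π ≫ S ≫ ι =
    (D.π ≫ S ≫ ι) ≫ ((show DualNumber k from a).fst • 𝟙 D.sheaf + (show DualNumber k from a).snd • (εm D))
  simp only [hε, Preadditive.add_comp, Preadditive.comp_add, Linear.smul_comp, Linear.comp_smul, Category.assoc,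
    Category.id_comp, Category.comp_id, reassoc_of% h1, zero_comp, comp_zero]

include hι in
theorem ι_horizontal (c : DefoSh.DefoConn δ nabla D) :
    T ι ≫ c.conn = nabla ≫ T (KoszTw.tensorMap ι (𝟙 Ω')) := by
  haveI := epi_π D
  haveI : Epi (T D.π) := inferInstanceAs (Epi ((KFlatLib.toAb X).map D.π))
  have h := (isHorizontal_iff c.conn c.conn _).1 (c.act_horizontal (eps k))
  have hp := (isHorizontal_iff c.conn nabla _).1 c.π_horizontal
  rw [← cancel_epi (T D.π), ← Category.assoc, ← T_comp, hι, ← Category.assoc, hp, Category.assoc,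
    ← T_comp, ← tensorMap_comp', hι]
  exact h

include hι hE in
/-- The difference of two deformed connections. -/
theorem existsUnique_diff (c₀ c : DefoSh.DefoConn δ nabla D) :
    ∃! φ : E ⟶ CohB1.tensorMod E Ω', c.conn - c₀.conn = T (D.π ≫ φ ≫ KoszTw.tensorMap ι (𝟙 Ω')) := by
  haveI := epi_π D
  have hS := tens_shortExact (Ω' := Ω') ι hι hE
  haveI := hS.mono_f
  obtain ⟨Δ, hΔ⟩ := exists_sub_eq δ c₀.isConn c.isConn
  have h1 : ι ≫ Δ = 0 := by
    apply T_injective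
    show T (ι ≫ Δ) = T 0
    rw [T_comp, hΔ, T_zero, Preadditive.comp_sub, ι_horizontal ι hι c, ι_horizontal ι hι c₀,
      sub_self]
  obtain ⟨Δ₁, hΔ₁⟩ := exists_desc ι hι Δ h1
  have h2 : Δ₁ ≫ KoszTw.tensorMap D.π (𝟙 Ω') = 0 := by
    rw [← cancel_epi D.π, reassoc_of% hΔ₁, comp_zero]
    apply T_injective
    show T (Δ ≫ _) = T 0
    rw [T_comp, hΔ, T_zero, Preadditive.sub_comp,
      ← (isHorizontal_iff c.conn nabla _).1 c.π_horizontal,
      ← (isHorizontal_iff c₀.conn nabla _).1 c₀.π_horizontal, sub_self]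
  refine ⟨hS.exact.lift Δ₁ h2, ?_, fun φ hφ => ?_⟩
  · show c.conn - c₀.conn = _
    have hl := hS.exact.lift_f Δ₁ h2
    rw [show hS.exact.lift Δ₁ h2 ≫ KoszTw.tensorMap ι (𝟙 Ω') = Δ₁ from hl, hΔ₁, hΔ]
  · rw [← cancel_mono (KoszTw.tensorMap ι (𝟙 Ω')), ← cancel_epi D.π]
    apply T_injective
    show T _ = T _
    rw [← hφ, ← hΔ, ← hΔ₁]
    exact congrArg (fun z => T (D.π ≫ z)) (hS.exact.lift_f Δ₁ h2).symm

include hι in
/-- A deformed connection moved by a map. -/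
theorem exists_conn (c₀ : DefoSh.DefoConn δ nabla D) (φ : E ⟶ CohB1.tensorMod E Ω') :
    ∃ c : DefoSh.DefoConn δ nabla D, c.conn - c₀.conn = T (D.π ≫ φ ≫ KoszTw.tensorMap ι (𝟙 Ω')) := by
  have h1 : ι ≫ D.π = 0 := ι_π D ι hι
  let Ψ := D.π ≫ φ ≫ KoszTw.tensorMap ι (𝟙 Ω')
  have hΨπ : Ψ ≫ KoszTw.tensorMap D.π (𝟙 Ω') = 0 := by
    simp only [Ψ, Category.assoc, ← tensorMap_comp', h1, tensorMap_zero, comp_zero]
  have hΨε : Ψ ≫ KoszTw.tensorMap (εm D) (𝟙 Ω') = 0 := by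
    rw [show (εm D) = D.π ≫ ι from hι.symm, tensorMap_comp', ← Category.assoc, hΨπ,
      zero_comp]
  have hεΨ : (εm D) ≫ Ψ = 0 := by
    rw [show (εm D) = D.π ≫ ι from hι.symm]
    simp only [Ψ, Category.assoc, reassoc_of% h1, zero_comp, comp_zero]
  refine ⟨⟨c₀.conn + T Ψ, isConn_add δ c₀.isConn Ψ, fun a => ?_, ?_⟩, add_sub_cancel_left _ _⟩
  · have ha : (D.act a : D.sheaf ⟶ D.sheaf) ≫ Ψ = Ψ ≫ KoszTw.tensorMap (D.act a : D.sheaf ⟶ D.sheaf) (𝟙 Ω') := by
      erw [act_hom_eq D a]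
      change ((show DualNumber k from a).fst • 𝟙 D.sheaf + (show DualNumber k from a).snd • (εm D)) ≫ Ψ =
        Ψ ≫ KoszTw.tensorMap ((show DualNumber k from a).fst • 𝟙 D.sheaf + (show DualNumber k from a).snd • (εm D)) (𝟙 Ω')
      rw [tensorMap_add, tensorMap_smul_id, tensorMap_smul]
      simp only [Preadditive.add_comp, Preadditive.comp_add, Linear.smul_comp, Linear.comp_smul, hΨε, hεΨ,
        Category.id_comp, Category.comp_id]
    rw [isHorizontal_iff, Preadditive.comp_add, Preadditive.add_comp,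
      (isHorizontal_iff c₀.conn c₀.conn _).1 (c₀.act_horizontal a), ← T_comp, ← T_comp, ha]
  · rw [isHorizontal_iff, Preadditive.add_comp, (isHorizontal_iff c₀.conn nabla _).1 c₀.π_horizontal,
      ← T_comp, hΨπ, T_zero, add_zero]

include hι hE in
/-- Deformed connections form a torsor under maps `E ⟶ E ⊗ Ω'`. -/
theorem exists_equiv (c₀ : DefoSh.DefoConn δ nabla D) :
    ∃ Φ : DefoSh.DefoConn δ nabla D ≃ (E ⟶ CohB1.tensorMod E Ω'),
      ∀ c, c.conn - c₀.conn = T (D.π ≫ Φ c ≫ KoszTw.tensorMap ι (𝟙 Ω')) := by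
  choose F hF hFu using fun c => existsUnique_diff ι hι hE c₀ c
  have hext : ∀ c c' : DefoSh.DefoConn δ nabla D, c.conn = c'.conn → c = c' := by
    rintro ⟨c, _, _, _⟩ ⟨c', _, _, _⟩ rfl
    rfl
  refine ⟨Equiv.ofBijective F ⟨fun c c' h => hext c c' ?_, fun φ => ?_⟩, hF⟩
  · have h' := hF c
    rw [h, ← hF c'] at h'
    exact sub_left_injective h'
  · obtain ⟨c, hc⟩ := exists_conn ι hι c₀ φ
    exact ⟨c, (hFu c φ hc).symm⟩

include hι in
/-- Transport equivalence in terms of commutators. -/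
theorem transport_iff (c c' : DefoSh.DefoConn δ nabla D) :
    DefoSh.DefoConn.Transport c c' ↔ ∃ S : E ⟶ E,
      c'.conn - c.conn = T D.π ≫ (nabla ≫ T (KoszTw.tensorMap S (𝟙 Ω')) - T S ≫ nabla) ≫
        T (KoszTw.tensorMap ι (𝟙 Ω')) := by
  haveI := epi_π D
  have h1 : ι ≫ D.π = 0 := ι_π D ι hι
  haveI := (ext_shortExact D ι hι).mono_f
  have key : ∀ S : E ⟶ E, (ConnSh.IsHorizontal c.conn c'.conn (𝟙 D.sheaf + D.π ≫ S ≫ ι) ↔
      c'.conn - c.conn = T D.π ≫ (nabla ≫ T (KoszTw.tensorMap S (𝟙 Ω')) - T S ≫ nabla) ≫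
        T (KoszTw.tensorMap ι (𝟙 Ω'))) := fun S => by
    have hL : T (D.π ≫ S ≫ ι) ≫ c'.conn = T D.π ≫ T S ≫ nabla ≫ T (KoszTw.tensorMap ι (𝟙 Ω')) := by
      simp only [T_comp, Category.assoc, ι_horizontal ι hι c']
    have hR : c.conn ≫ T (KoszTw.tensorMap (D.π ≫ S ≫ ι) (𝟙 Ω')) =
        T D.π ≫ nabla ≫ T (KoszTw.tensorMap S (𝟙 Ω')) ≫ T (KoszTw.tensorMap ι (𝟙 Ω')) := by
      rw [tensorMap_comp', tensorMap_comp', T_comp, T_comp, ← Category.assoc,
        ← (isHorizontal_iff c.conn nabla _).1 c.π_horizontal, Category.assoc]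
    rw [isHorizontal_iff, tensorMap_add, KoszTw.tensorMap_id, T_add, T_add,
      T_id, T_id, Preadditive.add_comp, Preadditive.comp_add,
      Category.id_comp, Category.comp_id, hL, hR]
    simp only [Preadditive.sub_comp, Preadditive.comp_sub, Category.assoc]
    rw [sub_eq_sub_iff_add_eq_add, add_comm (T D.π ≫ nabla ≫ _ ≫ _) c.conn]
  constructor
  · rintro ⟨e, he⟩
    have hπ : (e.iso.hom - 𝟙 D.sheaf) ≫ D.π = 0 := by
      rw [Preadditive.sub_comp, e.hom_π, Category.id_comp, sub_self]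
    let U := (ext_shortExact D ι hι).exact.lift (e.iso.hom - 𝟙 D.sheaf) hπ
    have hU : U ≫ ι = e.iso.hom - 𝟙 D.sheaf := (ext_shortExact D ι hι).exact.lift_f _ hπ
    have hcomm : (D.π ≫ ι) ≫ e.iso.hom = e.iso.hom ≫ D.π ≫ ι := by
      rw [hι]; exact e.act_hom _
    have hιU : ι ≫ U = 0 := by
      rw [← cancel_mono ι, ← cancel_epi D.π, zero_comp, comp_zero, Category.assoc, hU, ← Category.assoc,
        Preadditive.comp_sub, Category.comp_id, hcomm, ← Category.assoc, e.hom_π, sub_self]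
    obtain ⟨S, hS⟩ := exists_desc ι hι U hιU
    refine ⟨S, (key S).1 ?_⟩
    rw [← Category.assoc, hS, hU, add_sub_cancel]
    exact he
  · rintro ⟨S, hS⟩
    have hsq : (D.π ≫ S ≫ ι) ≫ D.π ≫ S ≫ ι = 0 := by
      simp only [Category.assoc, reassoc_of% h1, zero_comp, comp_zero]
    let i : D.sheaf ≅ D.sheaf :=
      { hom := 𝟙 D.sheaf + D.π ≫ S ≫ ι
        inv := 𝟙 D.sheaf - D.π ≫ S ≫ ι
        hom_inv_id := by
          rw [Preadditive.comp_sub, Category.comp_id, Preadditive.add_comp, Category.id_comp, hsq]; abel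
        inv_hom_id := by
          rw [Preadditive.comp_add, Category.comp_id, Preadditive.sub_comp, Category.id_comp, hsq]; abel }
    refine ⟨⟨i, fun a => ?_, ?_⟩, (key S).2 hS⟩
    · show (D.act a : D.sheaf ⟶ D.sheaf) ≫ (𝟙 D.sheaf + D.π ≫ S ≫ ι) = (𝟙 D.sheaf + D.π ≫ S ≫ ι) ≫ _
      rw [Preadditive.comp_add, Preadditive.add_comp, Category.comp_id, Category.id_comp, act_comp_πι ι hι a S]
    · show (𝟙 D.sheaf + D.π ≫ S ≫ ι) ≫ D.π = D.π
      rw [Preadditive.add_comp, Category.id_comp, Category.assoc, Category.assoc, h1, comp_zero, comp_zero, add_zero]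

end Groth.Agent.DefoSh16
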