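import Groth.Agent.DefoSh16.Basic
import Groth.Agent.Synt29.ExtReal
import Groth.Agent.ExtIso.Main
import Mathlib.RingTheory.Flat.Basic

/-!
# First-order deformations are extensions
-/

set_option autoImplicit false
set_option linter.style.haveILetI false
set_option backward.isDefEq.respectTransparency false
set_option backward.isDefEq.respectTransparency.types false

universe u

open CategoryTheory CategoryTheory.Limits AlgebraicGeometry TopologicalSpace Opposite

noncomputable section

namespace Groth.Agent.DefoSh16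

/-- A module over the dual numbers on which the kernel of `ε` is its image is flat. -/
theorem flat_of_ker_eq_im {k : Type u} [Field k] {N : Type u} [AddCommGroup N] [Module (DualNumber k) N]
    (h : ∀ n : N, (DualNumber.eps : DualNumber k) • n = 0 → ∃ m, (DualNumber.eps : DualNumber k) • m = n) :
    Module.Flat (DualNumber k) N := by
  refine Module.Flat.iff_rTensor_injective'.2 fun I => ?_
  refine (injective_iff_map_eq_zero _).2 fun x hx => ?_
  by_cases hI : ∃ a ∈ I, a.fst ≠ 0
  · obtain ⟨a, ha, ha0⟩ := hI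
    have hu : IsUnit a := by rw [TrivSqZeroExt.isUnit_iff_isUnit_fst]; exact isUnit_iff_ne_zero.2 ha0
    have htop : I = ⊤ := Ideal.eq_top_of_isUnit_mem _ ha hu
    subst htop
    exact (LinearEquiv.rTensor N (Submodule.topEquiv : (⊤ : Ideal (DualNumber k)) ≃ₗ[DualNumber k] DualNumber k)).injective
      (hx.trans (map_zero _).symm)
  · push Not at hI
    by_cases hb : ∀ a ∈ I, a.snd = 0
    · have : Subsingleton ↥I := ⟨fun a b => by
        apply Subtype.ext
        ext
        · rw [hI _ a.2, hI _ b.2]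
        · rw [hb _ a.2, hb _ b.2]⟩
      exact Subsingleton.elim _ _
    · push Not at hb
      obtain ⟨a, ha, ha1⟩ := hb
      have hεa : (DualNumber.eps : DualNumber k) = a.snd⁻¹ • a := by
        ext
        · simp [hI a ha]
        · simp [inv_mul_cancel₀ ha1]
      have hε : (DualNumber.eps : DualNumber k) ∈ I := by
        rw [hεa, Algebra.smul_def]
        exact I.mul_mem_left _ ha
      let e : I := ⟨DualNumber.eps, hε⟩
      have hgen : ∀ b : I, b = (algebraMap k (DualNumber k) b.1.snd) • e := fun b => by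
        apply Subtype.ext
        show b.1 = algebraMap k (DualNumber k) b.1.snd * DualNumber.eps
        rw [← Algebra.smul_def]
        ext <;> simp [hI _ b.2]
      obtain ⟨n, rfl⟩ : ∃ n : N, e ⊗ₜ[DualNumber k] n = x := by
        clear hx
        induction x with
        | zero => exact ⟨0, TensorProduct.tmul_zero _ _⟩
        | tmul b m =>
          refine ⟨(algebraMap k (DualNumber k) b.1.snd) • m, ?_⟩
          conv_rhs => rw [hgen b]
          rw [TensorProduct.smul_tmul]
        | add y z hy hz =>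
          obtain ⟨n, rfl⟩ := hy
          obtain ⟨n', rfl⟩ := hz
          exact ⟨n + n', TensorProduct.tmul_add _ _ _⟩
      have h0 : (DualNumber.eps : DualNumber k) • n = 0 := by
        have := congrArg (TensorProduct.lid (DualNumber k) N) hx
        simpa [e] using this
      obtain ⟨m, rfl⟩ := h n h0
      rw [← TensorProduct.smul_tmul, show (DualNumber.eps : DualNumber k) • e = 0 from
        Subtype.ext DualNumber.eps_mul_eps, TensorProduct.zero_tmul]

variable {k : Type u} [Field k] {X : Scheme.{u}} [X.Over (Spec (CommRingCat.of k))] {E : X.Modules}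

/-- The action of the dual numbers on an extension of `E` by `E`. -/
def extAct {M : X.Modules} (i : E ⟶ M) (p : M ⟶ E) (w : i ≫ p = 0) : DualNumber k →ₐ[k] End M :=
  DualNumber.lift ⟨(Algebra.ofId k (End M), (p ≫ i : M ⟶ M)),
    show (p ≫ i) ≫ p ≫ i = 0 by rw [Category.assoc, reassoc_of% w, zero_comp, comp_zero],
    fun a => (Algebra.commutes a (show End M from p ≫ i)).symm⟩

theorem extAct_eq {M : X.Modules} (i : E ⟶ M) (p : M ⟶ E) (w : i ≫ p = 0) (z : DualNumber k) :
    (extAct i p w z : M ⟶ M) = z.fst • 𝟙 M + z.snd • (p ≫ i) := by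
  change (algebraMap k (End M) z.fst + (algebraMap k (End M) z.snd) * (show End M from p ≫ i) : End M) = _
  rw [Algebra.algebraMap_eq_smul_one, Algebra.algebraMap_eq_smul_one, smul_mul_assoc, one_mul]
  rfl

theorem extAct_eps {M : X.Modules} (i : E ⟶ M) (p : M ⟶ E) (w : i ≫ p = 0) :
    (extAct (k := k) i p w DualNumber.eps : M ⟶ M) = p ≫ i := by
  rw [extAct_eq, DualNumber.fst_eps, DualNumber.snd_eps, zero_smul, one_smul, zero_add]

/-- The deformation attached to an extension of `E` by `E`. -/
def ofExt {M : X.Modules} (i : E ⟶ M) (p : M ⟶ E) (w : i ≫ p = 0)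
    (hS : (ShortComplex.mk i p w).ShortExact) : DefoSh.Defo E (ArtFun.Art.dual k k) where
  sheaf := M
  act := extAct i p w
  π := p
  act_π a ha := by
    show (extAct i p w (show DualNumber k from a) : M ⟶ M) ≫ p = 0
    rw [extAct_eq, show (show DualNumber k from a).fst = 0 from ha]
    simp [Linear.smul_comp, w]
  surj x := (ModuleCat.epi_iff_surjective ((DerSch.stalkFunctor X x).map p)).1
    (((KFlatLib.shortExact_iff_stalk _).1 hS x).epi_g)
  ker_le x v hv := by
    letI : Module (ArtFun.Art.dual k k) ↑(M.presheaf.stalk x) :=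
      DefoSh.stalkModule (A := ArtFun.Art.dual k k) M (extAct i p w).toRingHom x
    obtain ⟨e, he⟩ := (ShortComplex.moduleCat_exact_iff _).1 ((KFlatLib.shortExact_iff_stalk _).1 hS x).exact v hv
    obtain ⟨m', hm⟩ := (ModuleCat.epi_iff_surjective ((DerSch.stalkFunctor X x).map p)).1
      (((KFlatLib.shortExact_iff_stalk _).1 hS x).epi_g) e
    let m : ↑(M.presheaf.stalk x) := m'
    have hv' : v = (eps k) • m := by
      show v = RefHull.stalkMapₗ (extAct (k := k) i p w DualNumber.eps : M ⟶ M) x m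
      rw [extAct_eps, DefoSh.stalkMapₗ_comp_apply]
      exact he.symm.trans (congrArg _ hm.symm)
    rw [hv']
    refine Submodule.smul_mem_smul ?_ Submodule.mem_top
    rw [ArtFun.Art.mem_maximalIdeal_iff]
    rfl
  flat x := by
    letI : Module (DualNumber k) ↑(M.presheaf.stalk x) :=
      DefoSh.stalkModule (A := DualNumber k) M (extAct i p w).toRingHom x
    refine flat_of_ker_eq_im fun n hn => ?_
    have hx := (KFlatLib.shortExact_iff_stalk _).1 hS x
    have hn' : RefHull.stalkMapₗ (extAct (k := k) i p w DualNumber.eps : M ⟶ M) x n = 0 := hn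
    rw [extAct_eps, DefoSh.stalkMapₗ_comp_apply] at hn'
    have hinj := (ModuleCat.mono_iff_injective ((DerSch.stalkFunctor X x).map i)).1 hx.mono_f
    have hp : RefHull.stalkMapₗ p x n = 0 := hinj (hn'.trans (map_zero _).symm)
    obtain ⟨e, he⟩ := (ShortComplex.moduleCat_exact_iff _).1 hx.exact n hp
    obtain ⟨m, hm⟩ := (ModuleCat.epi_iff_surjective ((DerSch.stalkFunctor X x).map p)).1 hx.epi_g e
    refine ⟨m, ?_⟩
    show RefHull.stalkMapₗ (extAct (k := k) i p w DualNumber.eps : M ⟶ M) x m = n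
    rw [extAct_eps, DefoSh.stalkMapₗ_comp_apply]
    exact (congrArg (RefHull.stalkMapₗ i x) hm).trans he

theorem ι_unique {D : DefoSh.Defo E (ArtFun.Art.dual k k)} {ι ι' : E ⟶ D.sheaf}
    (h : D.π ≫ ι = D.act (DualNumber.eps : DualNumber k))
    (h' : D.π ≫ ι' = D.act (DualNumber.eps : DualNumber k)) : ι = ι' := by
  haveI := epi_π D
  rw [← cancel_epi D.π, h, h']

variable [HasExt.{u} X.Modules]

/-- The class of a first-order deformation. -/
def cls (D : DefoSh.Defo E (ArtFun.Art.dual k k)) : Abelian.Ext E E 1 :=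
  (ext_shortExact D (exists_ι D).choose (exists_ι D).choose_spec).extClass

theorem cls_eq (D : DefoSh.Defo E (ArtFun.Art.dual k k)) (i : E ⟶ D.sheaf)
    (hi : D.π ≫ i = D.act (DualNumber.eps : DualNumber k)) (h0 : i ≫ D.π = 0)
    (hS : (ShortComplex.mk i D.π h0).ShortExact) : cls D = hS.extClass := by
  obtain rfl : (exists_ι D).choose = i := ι_unique (exists_ι D).choose_spec hi
  rfl

theorem cls_eq_of_iso {D D' : DefoSh.Defo E (ArtFun.Art.dual k k)} (e : DefoSh.Defo.Iso D D') : cls D = cls D' := by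
  obtain ⟨ι, hι⟩ := exists_ι D
  obtain ⟨ι', hι'⟩ := exists_ι D'
  rw [cls_eq D ι hι _ (ext_shortExact D ι hι), cls_eq D' ι' hι' _ (ext_shortExact D' ι' hι')]
  haveI := epi_π D
  have hcomm : ι ≫ e.iso.hom = ι' := by
    rw [← cancel_epi D.π, reassoc_of% hι]
    refine (e.act_hom _).trans ?_
    rw [show (D'.act (DualNumber.eps : DualNumber k) : D'.sheaf ⟶ D'.sheaf) = D'.π ≫ ι' from hι'.symm,
      ← Category.assoc, e.hom_π]
  let m : ext D ι hι ⟶ ext D' ι' hι' :=
    { τ₁ := 𝟙 E, τ₂ := e.iso.hom, τ₃ := 𝟙 E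
      comm₁₂ := (Category.id_comp _).trans hcomm.symm
      comm₂₃ := e.hom_π.trans (Category.comp_id _).symm }
  have h := ShortComplex.ShortExact.extClass_naturality (ext_shortExact D ι hι) (ext_shortExact D' ι' hι') m
  rw [show m.τ₁ = 𝟙 E from rfl, show m.τ₃ = 𝟙 E from rfl, Abelian.Ext.comp_mk₀_id, Abelian.Ext.mk₀_id_comp] at h
  exact h

theorem iso_of_cls_eq {D D' : DefoSh.Defo E (ArtFun.Art.dual k k)} (h : cls D = cls D') :
    Nonempty (DefoSh.Defo.Iso D D') := by
  obtain ⟨ι, hι⟩ := exists_ι D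
  obtain ⟨ι', hι'⟩ := exists_ι D'
  rw [cls_eq D ι hι _ (ext_shortExact D ι hι), cls_eq D' ι' hι' _ (ext_shortExact D' ι' hι')] at h
  obtain ⟨e, he1, he2⟩ := ExtIso.exists_iso_of_extClass_eq (ext_shortExact D ι hι) (ext_shortExact D' ι' hι') h
  refine ⟨⟨e, fun a => ?_, he2⟩⟩
  show (D.act a : D.sheaf ⟶ D.sheaf) ≫ e.hom = e.hom ≫ (D'.act a : D'.sheaf ⟶ D'.sheaf)
  erw [act_hom_eq D a, act_hom_eq D' a]
  rw [show εm D = D.π ≫ ι from hι.symm, show εm D' = D'.π ≫ ι' from hι'.symm]
  simp only [Preadditive.add_comp, Preadditive.comp_add, Linear.smul_comp, Linear.comp_smul, Category.assoc,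
    Category.id_comp, Category.comp_id, he1, reassoc_of% he2]

theorem cls_trivDual : cls (DefoSh.Defo.trivDual k E) = 0 := by
  let D := DefoSh.Defo.trivDual k E
  have hi : D.π ≫ (biprod.inr : E ⟶ E ⊞ E) = D.act (DualNumber.eps : DualNumber k) :=
    (DefoSh.dualAct_eps (k := k) E).symm
  rw [cls_eq D biprod.inr hi _ (ext_shortExact D biprod.inr hi)]
  have h := (ext_shortExact D biprod.inr hi).comp_extClass
  have h' := congrArg (fun z => (Abelian.Ext.mk₀ (biprod.inl : E ⟶ E ⊞ E)).comp z (zero_add 1)) h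
  simp only [Abelian.Ext.comp_zero, ← Abelian.Ext.comp_assoc_of_second_deg_zero, Abelian.Ext.mk₀_comp_mk₀] at h'
  rw [show (biprod.inl : E ⟶ E ⊞ E) ≫ (ext D biprod.inr hi).g = 𝟙 E from biprod.inl_fst,
    Abelian.Ext.mk₀_id_comp] at h'
  exact h'

/-- First-order deformations are classified by `Ext¹`. -/
theorem exists_equiv_ext [EnoughInjectives X.Modules] :
    ∃ e : DefoSh.FirstOrder k E ≃ Abelian.Ext E E 1,
      e (DefoSh.Defo.trivDual k E).cl = 0 ∧
      ∀ (D : DefoSh.Defo E (ArtFun.Art.dual k k)) (i : E ⟶ D.sheaf)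
        (_ : D.π ≫ i = D.act (DualNumber.eps : DualNumber k))
        (h0 : i ≫ D.π = 0) (hS : (ShortComplex.mk i D.π h0).ShortExact),
        e D.cl = hS.extClass := by
  let f : DefoSh.FirstOrder k E → Abelian.Ext E E 1 :=
    Quotient.lift cls fun D D' ⟨e⟩ => cls_eq_of_iso e
  have hf : Function.Bijective f := by
    constructor
    · intro a b
      refine Quotient.inductionOn₂ a b fun D D' h => ?_
      exact Quotient.sound (iso_of_cls_eq h)
    · intro x
      obtain ⟨M, i, p, w, hS, rfl⟩ := Synt29.ExtReal.exists_shortExact_extClass_eq x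
      exact ⟨(ofExt (k := k) i p w hS).cl, cls_eq (ofExt (k := k) i p w hS) i (extAct_eps i p w).symm w hS⟩
  exact ⟨Equiv.ofBijective f hf, cls_trivDual, fun D i hi h0 hS => cls_eq D i hi h0 hS⟩

end Groth.Agent.DefoSh16
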