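import Groth.Agent.DefoSh16.HomSec
import Groth.Agent.DefoSh16.CechTwo
import Groth.Agent.QCoh.Bound
import Groth.Agent.QCoh.LocFree
import Groth.Agent.SiteBase.CechCmp
import Mathlib.Algebra.Homology.DerivedCategory.Ext.ExactSequences

/-!
# `Ext¹(E, E)` of a module free on the two members of an affine cover
-/

universe u

set_option backward.isDefEq.respectTransparency false
set_option backward.isDefEq.respectTransparency.types false
set_option linter.style.haveILetI false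

open CategoryTheory CategoryTheory.Limits AlgebraicGeometry TopologicalSpace Opposite CategoryTheory.Abelian

noncomputable section

namespace Groth.Agent.DefoSh16

variable {X : Scheme.{u}} [HasExt.{u} X.Modules]

/-- The connecting map to `Ext¹`. -/
def extδ₁ {S : ShortComplex X.Modules} (hS : S.ShortExact) (A : X.Modules) : (A ⟶ S.X₃) →+ Ext A S.X₁ 1 :=
  AddMonoidHom.mk' (fun φ => (Ext.mk₀ φ).comp hS.extClass (zero_add 1))
    fun a b => by rw [Ext.mk₀_add, Ext.add_comp]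

theorem extδ₁_eq_zero_iff {S : ShortComplex X.Modules} (hS : S.ShortExact) (A : X.Modules) (φ : A ⟶ S.X₃) :
    extδ₁ hS A φ = 0 ↔ ∃ ψ : A ⟶ S.X₂, ψ ≫ S.g = φ := by
  constructor
  · intro hx
    obtain ⟨y, hy⟩ := Ext.covariant_sequence_exact₃ A hS _ rfl hx
    obtain ⟨ψ, rfl⟩ := (Ext.mk₀_bijective _ _).2 y
    rw [Ext.mk₀_comp_mk₀] at hy
    exact ⟨ψ, (Ext.mk₀_bijective _ _).1 hy⟩
  · rintro ⟨ψ, rfl⟩
    show (Ext.mk₀ _).comp hS.extClass (zero_add 1) = 0
    rw [← Ext.mk₀_comp_mk₀, Ext.comp_assoc_of_second_deg_zero, hS.comp_extClass, Ext.comp_zero]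

theorem extδ₁_surjective {S : ShortComplex X.Modules} (hS : S.ShortExact) [Injective S.X₂] (A : X.Modules) :
    Function.Surjective (extδ₁ hS A) := fun z => by
  obtain ⟨y, hy⟩ := Ext.covariant_sequence_exact₁ A hS z (Ext.eq_zero_of_injective _) (n₀ := 0) rfl
  obtain ⟨φ, rfl⟩ := (Ext.mk₀_bijective _ _).2 y
  exact ⟨φ, hy⟩

/-- `Ext¹(E, F)` is the cokernel of the difference map on the sheaf Hom, for a two-member affine cover. -/
theorem nonempty_ext_addEquiv_coker (E F : X.Modules) [EnoughInjectives X.Modules]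
    (U : ULift.{u} (Fin 2) → X.Opens) (hU : ∀ i, IsAffineOpen (U i)) (hcov : ⨆ i, U i = ⊤)
    (hE : Coh.IsQCoh E) (hF : Coh.IsQCoh F) {ι : Type u} [Finite ι]
    (b : ∀ i, Module.Basis ι Γ(X, U i) Γ(E, U i)) :
    Nonempty (Ext E F 1 ≃+
      (Γ(RefHull.homSh E F, U ⟨0⟩ ⊓ U ⟨1⟩) ⧸ (diff2 U (RefHull.homSh E F)).range)) := by
  obtain ⟨S, hS, hI, rfl⟩ : ∃ S : ShortComplex X.Modules, S.ShortExact ∧ Injective S.X₂ ∧ S.X₁ = F :=
    ⟨ShortComplex.mk (Injective.ι F) (cokernel.π (Injective.ι F)) (cokernel.condition _),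
      { exact := ShortComplex.exact_of_g_is_cokernel _ (cokernelIsCokernel _) },
      inferInstanceAs (Injective (Injective.under F)), rfl⟩
  haveI := hS.mono_f
  have hsurj : ∀ i, Function.Surjective (S.g.app (U i)) := fun i =>
    SiteBase.surjective_sections_of_HU_one (QCoh.toAb_shortExact hS) (U i)
      (QCoh.subsingleton_HU_of_isAffineOpen hF (hU i) 0)
  let V : X.Opens := U ⟨0⟩ ⊓ U ⟨1⟩
  have h0 : V ≤ U ⟨0⟩ := inf_le_left
  have h1 : V ≤ U ⟨1⟩ := inf_le_right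
  let H (G : X.Modules) := RefHull.homSh E G
  have htop : ∀ p ∈ (⊤ : X.Opens), ∃ i, p ∈ U i := fun p _ => Opens.mem_iSup.1 (hcov ▸ (trivial : p ∈ (⊤ : X.Opens)))
  let T := (E ⟶ S.X₃) × (∀ i, Γ(H S.X₂, U i))
  let A : AddSubgroup T :=
    { carrier := {p | ∀ i, pc S.g (U i) (p.2 i) = AModX.res (H S.X₃) le_top (ofHomAdd p.1)}
      add_mem' := fun {p q} hp hq i => by
        show pc S.g (U i) (p.2 i + q.2 i) = AModX.res (H S.X₃) le_top (ofHomAdd (p.1 + q.1))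
        rw [map_add, map_add, map_add, hp i, hq i]
      zero_mem' := fun i => by
        show pc S.g (U i) 0 = AModX.res (H S.X₃) le_top (ofHomAdd (0 : E ⟶ S.X₃))
        rw [map_zero, map_zero, map_zero]
      neg_mem' := fun {p} hp i => by
        show pc S.g (U i) (-p.2 i) = AModX.res (H S.X₃) le_top (ofHomAdd (-p.1))
        rw [map_neg, map_neg, map_neg, hp i] }
  let D : A →+ Γ(H S.X₂, V) := AddMonoidHom.mk'
    (fun p => AModX.res (H S.X₂) h1 (p.1.2 ⟨1⟩) - AModX.res (H S.X₂) h0 (p.1.2 ⟨0⟩))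
    (fun p q => by
      show AModX.res (H S.X₂) h1 (p.1.2 ⟨1⟩ + q.1.2 ⟨1⟩) - AModX.res (H S.X₂) h0 (p.1.2 ⟨0⟩ + q.1.2 ⟨0⟩) = _
      rw [map_add, map_add]
      abel)
  have hD : ∀ p : A, ∃ y : Γ(H S.X₁, V), pc S.f V y = D p := fun p => by
    refine exists_pc_f (hU ⟨0⟩) hE (b ⟨0⟩) h0 hS _ ?_
    show pc S.g V (AModX.res (H S.X₂) h1 (p.1.2 ⟨1⟩) - AModX.res (H S.X₂) h0 (p.1.2 ⟨0⟩)) = 0
    rw [map_sub, ← pc_res, ← pc_res, p.2, p.2, AModX.res_res, AModX.res_res, sub_self]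
  choose y hy using hD
  have hinj := pc_injective (E := E) S.f V
  let c : A →+ Γ(H S.X₁, V) ⧸ (diff2 U (H S.X₁)).range :=
    (QuotientAddGroup.mk' _).comp (AddMonoidHom.mk' y fun p q => hinj (by
      rw [map_add (pc S.f V), hy, hy, hy, map_add]))
  let a : A →+ Ext E S.X₁ 1 := (extδ₁ hS E).comp ((AddMonoidHom.fst _ _).comp A.subtype)
  have ha : Function.Surjective a := fun z => by
    obtain ⟨φ, rfl⟩ := extδ₁_surjective hS E z
    choose t ht using fun i => exists_pc_g (hU i) hE (b i) le_rfl (hsurj i) (AModX.res (H S.X₃) le_top (ofHomAdd φ))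
    exact ⟨⟨(φ, t), ht⟩, rfl⟩
  have hc : Function.Surjective c := fun z => by
    obtain ⟨w, rfl⟩ := QuotientAddGroup.mk'_surjective _ z
    obtain ⟨t1, ht1⟩ := exists_res_eq (hU ⟨1⟩) hE (b ⟨1⟩) h1 (QCoh.isFlasqueMod_of_injective S.X₂) (pc S.f V w)
    let t : ∀ i, Γ(H S.X₂, U i) := fun i => match i with | ⟨0⟩ => 0 | ⟨1⟩ => t1
    have hgt : AModX.res (H S.X₃) h1 (pc S.g (U ⟨1⟩) t1) = 0 := by
      rw [pc_res, ht1, pc_pc, S.zero, pc_zero]
    obtain ⟨s, hs, -⟩ := AModX.existsUnique_glue (M := H S.X₃) U (fun _ => le_top) htop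
      (fun i => pc S.g (U i) (t i)) fun i j => by
        obtain ⟨i⟩ := i
        obtain ⟨j⟩ := j
        obtain rfl | rfl : i = 0 ∨ i = 1 := by omega
        all_goals obtain rfl | rfl : j = 0 ∨ j = 1 := by omega
        · rfl
        · exact ((congrArg _ (map_zero _)).trans (map_zero _)).trans hgt.symm
        · rw [show pc S.g (U ⟨0⟩) (t ⟨0⟩) = 0 from map_zero _, map_zero]
          have e := congrArg (AModX.res (H S.X₃) (le_inf inf_le_right inf_le_left : U ⟨1⟩ ⊓ U ⟨0⟩ ≤ V)) hgt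
          rw [AModX.res_res, map_zero] at e
          exact e
        · rfl
    obtain ⟨φ, rfl⟩ := ofHomAdd_bijective.2 s
    refine ⟨⟨(φ, t), fun i => (hs i).symm⟩, congrArg _ (hinj ?_)⟩
    refine (hy _).trans ?_
    show AModX.res (H S.X₂) h1 t1 - AModX.res (H S.X₂) h0 0 = _
    rw [map_zero, sub_zero, ht1]
  refine SiteBase.nonempty_addEquiv_of_surjective' a c ha hc fun p => ?_
  show extδ₁ hS E p.1.1 = 0 ↔ (QuotientAddGroup.mk' _ (y p) : Γ(H S.X₁, V) ⧸ (diff2 U (H S.X₁)).range) = 0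
  rw [extδ₁_eq_zero_iff, QuotientAddGroup.mk'_apply, QuotientAddGroup.eq_zero_iff]
  constructor
  · rintro ⟨ψ, hψ⟩
    have hk : ∀ i, pc S.g (U i) (p.1.2 i - AModX.res (H S.X₂) le_top (ofHomAdd ψ)) = 0 := fun i => by
      rw [map_sub, p.2 i, ← pc_res, pc_ofHomAdd, hψ, sub_self]
    choose w hw using fun i => exists_pc_f (hU i) hE (b i) le_rfl hS _ (hk i)
    refine ⟨(w ⟨0⟩, w ⟨1⟩), hinj ?_⟩
    rw [diff2_apply, hy, map_sub, ← pc_res, ← pc_res, hw, hw, map_sub, map_sub, AModX.res_res, AModX.res_res]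
    show _ = AModX.res (H S.X₂) h1 (p.1.2 ⟨1⟩) - AModX.res (H S.X₂) h0 (p.1.2 ⟨0⟩)
    abel
  · rintro ⟨⟨w0, w1⟩, hw⟩
    let w : ∀ i, Γ(H S.X₁, U i) := fun i => match i with | ⟨0⟩ => w0 | ⟨1⟩ => w1
    have hV : AModX.res (H S.X₂) h1 (p.1.2 ⟨1⟩ - pc S.f _ w1) = AModX.res (H S.X₂) h0 (p.1.2 ⟨0⟩ - pc S.f _ w0) := by
      have e := (congrArg (pc S.f V) hw).trans (hy p)
      rw [diff2_apply, map_sub, ← pc_res, ← pc_res] at e
      change AModX.res (H S.X₂) h1 _ - AModX.res (H S.X₂) h0 _ =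
        AModX.res (H S.X₂) h1 (p.1.2 ⟨1⟩) - AModX.res (H S.X₂) h0 (p.1.2 ⟨0⟩) at e
      rw [map_sub, map_sub, sub_eq_sub_iff_sub_eq_sub]
      exact e.symm
    obtain ⟨s, hs, -⟩ := AModX.existsUnique_glue (M := H S.X₂) U (fun _ => le_top) htop
      (fun i => p.1.2 i - pc S.f (U i) (w i)) fun i j => by
        obtain ⟨i⟩ := i
        obtain ⟨j⟩ := j
        obtain rfl | rfl : i = 0 ∨ i = 1 := by omega
        all_goals obtain rfl | rfl : j = 0 ∨ j = 1 := by omega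
        · rfl
        · exact hV.symm
        · have e := congrArg (AModX.res (H S.X₂) (le_inf inf_le_right inf_le_left : U ⟨1⟩ ⊓ U ⟨0⟩ ≤ V)) hV
          rw [AModX.res_res, AModX.res_res] at e
          exact e
        · rfl
    obtain ⟨ψ, rfl⟩ := ofHomAdd_bijective.2 s
    refine ⟨ψ, ofHomAdd_bijective.1 ?_⟩
    refine (AModX.existsUnique_glue (M := H S.X₃) U (fun _ => le_top) htop
      (fun i => AModX.res (H S.X₃) le_top (ofHomAdd p.1.1)) fun i j => by
        rw [AModX.res_res, AModX.res_res]).unique (fun i => ?_) (fun i => rfl)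
    rw [← pc_ofHomAdd, pc_res, hs i, map_sub, p.2 i, pc_pc, S.zero, pc_zero, sub_zero]

/-- `Ext¹(E, F)` is `Ȟ¹(U, 𝓗om(E, F))` for `E` free on the two members of an affine cover. -/
theorem nonempty_ext_addEquiv_cechH (E F : X.Modules) [EnoughInjectives X.Modules]
    (U : ULift.{u} (Fin 2) → X.Opens) (hU : ∀ i, IsAffineOpen (U i)) (hcov : ⨆ i, U i = ⊤) (n : ℕ)
    (hfree : ∀ i, Nonempty (E.restrict (U i).ι ≅ FlatMod.freeMod ↑(U i) n)) (hF : Coh.IsQCoh F) :
    Nonempty (Ext E F 1 ≃+ ↑(CohB1.cechH U (RefHull.homSh E F) 1)) := by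
  have hE : FlatMod.IsFinLocFree E := fun x => by
    obtain ⟨i, hi⟩ := Opens.mem_iSup.1 (show x ∈ ⨆ i, U i from hcov ▸ Opens.mem_top x)
    exact ⟨U i, n, hi, hfree i⟩
  let b : ∀ i, Module.Basis (ULift.{u} (Fin n)) Γ(X, U i) Γ(E, U i) := fun i =>
    Module.Basis.ofRepr (QCoh.free_sections (hU i) le_rfl (hfree i).some).some
  obtain ⟨e₁⟩ := nonempty_ext_addEquiv_coker E F U hU hcov (QCoh.isQCoh_of_isFinLocFree hE) hF b
  obtain ⟨e₂⟩ := nonempty_cechH_one_addEquiv (U := U) (M := RefHull.homSh E F)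
  exact ⟨e₁.trans e₂⟩

end Groth.Agent.DefoSh16

end
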