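import Groth.Agent.RefX.Lift
import Groth.Agent.QCoh.HHExact
import Groth.Agent.QCoh.RpushGod
import Groth.Agent.SiteBase.CechCtx
import Groth.Prelude.Def_DefoSh

/-!
# Sections of the sheaf Hom: composition, morphisms, coordinates over an affine open
-/

universe u

set_option backward.isDefEq.respectTransparency false
set_option backward.isDefEq.respectTransparency.types false
set_option linter.style.haveILetI false

open CategoryTheory CategoryTheory.Limits AlgebraicGeometry TopologicalSpace Opposite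

noncomputable section

namespace Groth.Agent.DefoSh16

variable {X : Scheme.{u}} {E G G' G'' : X.Modules}

/-- The sections over an open of a monomorphism are injective. -/
theorem app_injective_of_mono (φ : G ⟶ G') [Mono φ] (V : X.Opens) : Function.Injective (φ.app V) := by
  have hS : (ShortComplex.mk φ (cokernel.π φ) (cokernel.condition φ)).ShortExact :=
    { exact := ShortComplex.exact_of_g_is_cokernel _ (cokernelIsCokernel φ) }
  exact SiteBase.sections_f_injective (QCoh.toAb_shortExact hS) V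

/-- Composition of a section of the sheaf Hom with a morphism. -/
def pc (φ : G ⟶ G') (W : X.Opens) : Γ(RefHull.homSh E G, W) →+ Γ(RefHull.homSh E G', W) :=
  AddMonoidHom.mk' (fun g => ⟨fun x => (RefHull.stalkMapₗ φ x.1).comp (g.1 x), fun V i m x => by
      obtain ⟨W', hW', j, n, h⟩ := RefHull.isLocSect_of_mem g V i m x
      exact ⟨W', hW', j, φ.app W' n, fun y =>
        (congrArg (RefHull.stalkMapₗ φ y.1) (h y)).trans (RefHull.stalkMapₗ_germ φ y.1 y.2 n)⟩⟩)
    fun a b => RefX.sect_ext fun y => LinearMap.comp_add (a.1 y) (b.1 y) (RefHull.stalkMapₗ φ y.1)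

theorem pc_val (φ : G ⟶ G') {W : X.Opens} (g : Γ(RefHull.homSh E G, W)) (y : W) :
    (pc φ W g).1 y = (RefHull.stalkMapₗ φ y.1).comp (g.1 y) := rfl

theorem pc_res (φ : G ⟶ G') {W V : X.Opens} (h : V ≤ W) (g : Γ(RefHull.homSh E G, W)) :
    AModX.res _ h (pc φ W g) = pc φ V (AModX.res _ h g) :=
  RefX.sect_ext fun _ => rfl

theorem pc_pc (φ : G ⟶ G') (ψ : G' ⟶ G'') {W : X.Opens} (g : Γ(RefHull.homSh E G, W)) :
    pc ψ W (pc φ W g) = pc (φ ≫ ψ) W g :=
  RefX.sect_ext fun y => LinearMap.ext fun v => (DefoSh.stalkMapₗ_comp_apply y.1 φ ψ (g.1 y v)).symm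

theorem pc_zero {W : X.Opens} (g : Γ(RefHull.homSh E G, W)) : pc (0 : G ⟶ G') W g = 0 :=
  RefX.sect_ext fun y => LinearMap.ext fun v => DefoSh.stalkMapₗ_zero_apply y.1 (g.1 y v)

theorem app_pc (φ : G ⟶ G') {W V : X.Opens} (h : V ≤ W) (g : Γ(RefHull.homSh E G, W)) (m : Γ(E, V)) :
    φ.app V (RefX.app h g m) = RefX.app h (pc φ W g) m :=
  ZClosLib.section_ext G' _ _ fun y hy => by
    rw [RefX.germ_app, pc_val, LinearMap.comp_apply, ← RefX.germ_app h g m hy, RefHull.stalkMapₗ_germ]

theorem pc_injective (φ : G ⟶ G') [Mono φ] (W : X.Opens) :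
    Function.Injective (pc (E := E) φ W) := by
  refine (injective_iff_map_eq_zero _).2 fun g hg => RefX.sect_ext fun y => LinearMap.ext fun v => ?_
  obtain ⟨V, hyV, m, rfl⟩ := TopCat.Presheaf.exists_germ_eq E.presheaf v
  have hm : RefX.app (inf_le_right : V ⊓ W ≤ W) g (AModX.res E inf_le_left m) = 0 := by
    refine app_injective_of_mono φ _ ?_
    rw [app_pc, hg, map_zero]
    exact ZClosLib.section_ext G' _ _ fun z hz => by
      rw [RefX.germ_app, map_zero]
      exact LinearMap.zero_apply _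
  have h := congrArg (G.presheaf.germ (V ⊓ W) y.1 ⟨hyV, y.2⟩) hm
  rw [RefX.germ_app, map_zero, RefX.germ_res] at h
  exact h

/-- The global section of the sheaf Hom of a morphism, additively. -/
def ofHomAdd : (E ⟶ G) →+ Γ(RefHull.homSh E G, (⊤ : X.Opens)) :=
  AddMonoidHom.mk' (fun ψ => RefHull.ofHom ψ ⊤)
    fun a b => RefX.sect_ext fun y => LinearMap.ext fun v => DefoSh.stalkMapₗ_add_apply y.1 a b v

theorem ofHomAdd_val (ψ : E ⟶ G) (y : (⊤ : X.Opens)) :
    (ofHomAdd ψ).1 y = RefHull.stalkMapₗ ψ y.1 := rfl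

theorem pc_ofHomAdd (φ : G ⟶ G') (ψ : E ⟶ G) : pc φ ⊤ (ofHomAdd ψ) = ofHomAdd (ψ ≫ φ) :=
  RefX.sect_ext fun y => LinearMap.ext fun v => (DefoSh.stalkMapₗ_comp_apply y.1 ψ φ v).symm

theorem ofHomAdd_bijective : Function.Bijective (ofHomAdd (E := E) (G := G)) := by
  constructor
  · refine (injective_iff_map_eq_zero _).2 fun ψ hψ => Scheme.Modules.hom_ext _ _ fun V =>
      AddCommGrpCat.hom_ext <| AddMonoidHom.ext fun m => ZClosLib.section_ext G _ _ fun y hy => ?_
    rw [← RefHull.stalkMapₗ_germ ψ y hy m, ← ofHomAdd_val ψ ⟨y, trivial⟩, hψ]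
    exact (map_zero (G.presheaf.germ V y hy).hom).symm
  · intro g
    let app : ∀ V : X.Opens, Γ(E, V) →+ Γ(G, V) := fun V =>
      AddMonoidHom.mk' (RefX.app le_top g) (RefX.app_add le_top g)
    let ψ : E ⟶ G := ⟨PresheafOfModules.homMk
      { app := fun V => AddCommGrpCat.ofHom (app V.unop)
        naturality := fun V V' i => by
          ext m
          exact (RefX.res_app le_top i.unop.le g m).symm }
      fun V r m => RefX.app_smul le_top g r m⟩
    refine ⟨ψ, RefX.sect_ext fun y => LinearMap.ext fun v => ?_⟩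
    obtain ⟨V, hyV, m, rfl⟩ := TopCat.Presheaf.exists_germ_eq E.presheaf v
    refine (RefHull.stalkMapₗ_germ ψ y.1 hyV m).trans ?_
    exact RefX.germ_app le_top g m hyV

section Affine

set_option linter.unusedSectionVars false

variable {U : X.Opens} (hU : IsAffineOpen U) (hE : Coh.IsQCoh E)
  {ι : Type u} [Finite ι] (b : Module.Basis ι Γ(X, U) Γ(E, U))

/-- The coordinates of a section of the sheaf Hom in a basis of the sections over the affine open. -/
def coord {W : X.Opens} (h : W ≤ U) (g : Γ(RefHull.homSh E G, W)) (j : ι) : Γ(G, W) :=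
  RefX.app le_rfl g (AModX.res E h (b j))

theorem germ_coord {W : X.Opens} (h : W ≤ U) (g : Γ(RefHull.homSh E G, W)) (j : ι) {y : X} (hy : y ∈ W) :
    G.presheaf.germ W y hy (coord b h g j) = g.1 ⟨y, hy⟩ (E.presheaf.germ U y (h hy) (b j)) := by
  rw [coord, RefX.germ_app, RefX.germ_res]

theorem coord_pc (φ : G ⟶ G') {W : X.Opens} (h : W ≤ U) (g : Γ(RefHull.homSh E G, W)) (j : ι) :
    coord b h (pc φ W g) j = φ.app W (coord b h g j) :=
  (app_pc φ le_rfl g _).symm

theorem coord_res {W V : X.Opens} (h : W ≤ U) (h' : V ≤ W) (g : Γ(RefHull.homSh E G, W)) (j : ι) :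
    coord b (h'.trans h) (AModX.res _ h' g) j = AModX.res G h' (coord b h g j) :=
  ZClosLib.section_ext G _ _ fun y hy => by
    rw [germ_coord, RefX.germ_res, germ_coord]
    rfl

theorem coord_zero {W : X.Opens} (h : W ≤ U) (j : ι) :
    coord b h (0 : Γ(RefHull.homSh E G, W)) j = 0 :=
  ZClosLib.section_ext G _ _ fun y hy => by
    rw [germ_coord, map_zero]
    exact LinearMap.zero_apply _

include hE hU in
theorem coord_ext {W : X.Opens} (h : W ≤ U) {g g' : Γ(RefHull.homSh E G, W)}
    (e : ∀ j, coord b h g j = coord b h g' j) : g = g' := by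
  refine RefX.sect_ext_affine hE hU h fun y m => ?_
  letI := QCoh.stalkModule E (h y.2)
  letI := QCoh.stalkModule G (h y.2)
  suffices H : ∀ v ∈ Submodule.span Γ(X, U) (Set.range b),
      g.1 y (E.presheaf.germ U y.1 (h y.2) v) = g'.1 y (E.presheaf.germ U y.1 (h y.2) v) from
    H m (b.span_eq ▸ Submodule.mem_top)
  intro v hv
  induction hv using Submodule.span_induction with
  | mem x hx =>
    obtain ⟨j, rfl⟩ := hx
    rw [← germ_coord b h g j y.2, ← germ_coord b h g' j y.2, e j]
  | zero => simp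
  | add x z _ _ hx hz => rw [map_add, map_add, map_add, hx, hz]
  | smul r x _ hx => rw [QCoh.germ_smul', map_smul, map_smul, hx]

include hE hU in
theorem exists_coord {W : X.Opens} (h : W ≤ U) (n : ι → Γ(G, W)) :
    ∃ g : Γ(RefHull.homSh E G, W), ∀ j, coord b h g j = n j := by
  letI := RefX.resModule G h
  refine ⟨RefX.ofLin hE hU h (b.constr ℕ n), fun j => ZClosLib.section_ext G _ _ fun y hy => ?_⟩
  rw [germ_coord, RefX.ofLin_germ hE hU h _ hy, Module.Basis.constr_basis]

variable {S : ShortComplex X.Modules}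

include hE hU b in
theorem exists_pc_f {W : X.Opens} (h : W ≤ U) (hS : S.ShortExact) (t : Γ(RefHull.homSh E S.X₂, W))
    (ht : pc S.g W t = 0) : ∃ y, pc S.f W y = t := by
  have hc : ∀ j, ∃ n : Γ(S.X₁, W), S.f.app W n = coord b h t j := fun j => by
    refine SiteBase.sections_exact (QCoh.toAb_shortExact hS) W _ ?_
    exact (coord_pc b S.g h t j).symm.trans
      ((congrArg (fun g => coord b h g j) ht).trans (coord_zero b h j))
  choose n hn using hc
  obtain ⟨y, hy⟩ := exists_coord hU hE b h n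
  exact ⟨y, coord_ext hU hE b h fun j => by rw [coord_pc, hy, hn]⟩

include hE hU b in
theorem exists_pc_g {W : X.Opens} (h : W ≤ U) (hsurj : Function.Surjective (S.g.app W))
    (t : Γ(RefHull.homSh E S.X₃, W)) : ∃ y, pc S.g W y = t := by
  choose n hn using fun j => hsurj (coord b h t j)
  obtain ⟨y, hy⟩ := exists_coord hU hE b h n
  exact ⟨y, coord_ext hU hE b h fun j => by rw [coord_pc, hy, hn]⟩

include hE hU b in
theorem exists_res_eq {W : X.Opens} (h : W ≤ U) (hG : QCoh.IsFlasqueMod G)
    (t : Γ(RefHull.homSh E G, W)) : ∃ s : Γ(RefHull.homSh E G, U), AModX.res _ h s = t := by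
  choose n hn using fun j =>
    (AddCommGrpCat.epi_iff_surjective _).1 (hG.epi (homOfLE h).op) (coord b h t j)
  obtain ⟨s, hs⟩ := exists_coord hU hE b le_rfl n
  refine ⟨s, coord_ext hU hE b h fun j => ?_⟩
  refine (coord_res b le_rfl h s j).trans ?_
  rw [hs]
  exact hn j

end Affine

end Groth.Agent.DefoSh16

end
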